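import Cfsg.Agent.Helper56.U35.PtsTab

/-!
# S2149: the action of `G0 = SU_3(5)` on the 126 isotropic points is well defined
-/

set_option autoImplicit false

namespace Cfsg.Agent.Helper56.U35

theorem vec_eta (v : Vec) : v = ![v 0, v 1, v 2] := by
  funext i
  fin_cases i <;> rfl

theorem pt_idx (v : Vec) (h : IsPt v) : pt (idx v) = v := by
  rw [vec_eta v] at h ⊢
  exact pt_idx_aux _ _ _ h

/-! ### `lead` and `nrm` -/

theorem lead_ne_zero {v : Vec} (hv : v ≠ 0) : lead v ≠ 0 := by
  unfold lead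
  split_ifs with h0 h1
  · intro h2
    apply hv
    funext i
    fin_cases i
    · exact h0
    · exact h1
    · exact h2
  · exact h1
  · exact h0

theorem lead_smul {c : GF25} (hc : c ≠ 0) (v : Vec) : lead (fun j => c * v j) = c * lead v := by
  unfold lead
  by_cases h0 : v 0 = 0
  · by_cases h1 : v 1 = 0
    · simp [h0, h1]
    · simp [h0, h1, hc]
  · simp [h0, hc]

theorem ne_zero_of_lead {v : Vec} (h : lead v = 1) : v ≠ 0 := by
  intro hv
  rw [hv] at h
  simp [lead] at h

theorem lead_nrm {v : Vec} (hv : v ≠ 0) : lead (nrm v) = 1 := by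
  have h := lead_ne_zero hv
  unfold nrm
  rw [lead_smul (inv_ne_zero h), inv_mul_cancel₀ h]

theorem nrm_smul {c : GF25} (hc : c ≠ 0) {v : Vec} (hv : v ≠ 0) :
    nrm (fun j => c * v j) = nrm v := by
  have h := lead_ne_zero hv
  funext i
  unfold nrm
  rw [lead_smul hc]
  field_simp

theorem nrm_eq_self {v : Vec} (h : lead v = 1) : nrm v = v := by
  funext i
  unfold nrm
  rw [h, inv_one, one_mul]

/-! ### the form and the group -/

theorem hermForm_eq (u v : Vec) : Cfsg.hermForm 3 GF25 5 u v = herm u v := by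
  unfold Cfsg.hermForm herm
  rw [Fin.sum_univ_three]

theorem herm_mulVec (g : G0) (u v : Vec) :
    herm ((mat g).mulVec u) ((mat g).mulVec v) = herm u v := by
  have h := g.2 u v
  rw [hermForm_eq, hermForm_eq] at h
  exact h

theorem herm_smul_self (c : GF25) (v : Vec) :
    herm (fun j => c * v j) (fun j => c * v j) = c ^ 6 * herm v v := by
  unfold herm
  ring

theorem mat_one : mat 1 = 1 := rfl

theorem mat_mul (g h : G0) : mat (g * h) = mat g * mat h := rfl

theorem mat_inv_mul (g : G0) : mat g⁻¹ * mat g = 1 := by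
  rw [← mat_mul, inv_mul_cancel, mat_one]

theorem mulVec_ne_zero (g : G0) {v : Vec} (hv : v ≠ 0) : (mat g).mulVec v ≠ 0 := by
  intro h
  apply hv
  have : (mat g⁻¹).mulVec ((mat g).mulVec v) = v := by
    rw [Matrix.mulVec_mulVec, mat_inv_mul, Matrix.one_mulVec]
  rw [← this, h, Matrix.mulVec_zero]

theorem mulVec_smul' (M : Matrix (Fin 3) (Fin 3) GF25) (c : GF25) (v : Vec) :
    M.mulVec (fun j => c * v j) = fun j => c * M.mulVec v j := by
  have : (fun j => c * v j) = c • v := rfl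
  rw [this, Matrix.mulVec_smul]
  rfl

theorem isPt_nrm_mulVec (g : G0) {v : Vec} (hv : IsPt v) : IsPt (nrm ((mat g).mulVec v)) := by
  have hv0 : v ≠ 0 := ne_zero_of_lead hv.2
  have h1 : (mat g).mulVec v ≠ 0 := mulVec_ne_zero g hv0
  refine ⟨?_, lead_nrm h1⟩
  unfold nrm
  rw [herm_smul_self, herm_mulVec, hv.1, mul_zero]

/-! ### the action -/

theorem act_one (i : Fin 126) : act 1 i = i := by
  unfold act actM
  rw [mat_one, Matrix.one_mulVec, nrm_eq_self (isPt_pt i).2, idx_pt]

theorem pt_act_eq (g : G0) (i : Fin 126) : pt (act g i) = nrm ((mat g).mulVec (pt i)) := by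
  unfold act actM
  exact pt_idx _ (isPt_nrm_mulVec g (isPt_pt i))

theorem act_mul (g h : G0) (i : Fin 126) : act (g * h) i = act g (act h i) := by
  have hv0 : pt i ≠ 0 := ne_zero_of_lead (isPt_pt i).2
  have h1 : (mat h).mulVec (pt i) ≠ 0 := mulVec_ne_zero h hv0
  have hl := lead_ne_zero h1
  have e1 : act g (act h i) = idx (nrm ((mat g).mulVec (pt (act h i)))) := rfl
  have e2 : act (g * h) i = idx (nrm ((mat (g * h)).mulVec (pt i))) := rfl
  have e3 : nrm ((mat h).mulVec (pt i)) =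
      fun j => (lead ((mat h).mulVec (pt i)))⁻¹ * (mat h).mulVec (pt i) j := rfl
  rw [e1, e2, pt_act_eq h i, mat_mul, ← Matrix.mulVec_mulVec, e3, mulVec_smul',
    nrm_smul (inv_ne_zero hl) (mulVec_ne_zero g h1)]

theorem pt_act (g : G0) (i : Fin 126) :
    ∃ c : GF25, c ≠ 0 ∧ ∀ j, pt (act g i) j = c * (mat g).mulVec (pt i) j := by
  have hv0 : pt i ≠ 0 := ne_zero_of_lead (isPt_pt i).2
  have h1 : (mat g).mulVec (pt i) ≠ 0 := mulVec_ne_zero g hv0
  refine ⟨(lead ((mat g).mulVec (pt i)))⁻¹, inv_ne_zero (lead_ne_zero h1), fun j => ?_⟩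
  rw [pt_act_eq]
  rfl

end Cfsg.Agent.Helper56.U35
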