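import Cfsg.Agent.Helper56.U35.Act
import Cfsg.Agent.Helper38.SU3Gen
import Cfsg.Agent.Helper45.SUCard
import Cfsg.Agent.S0283

/-!
# S2149: `PSU₃(5)` acts faithfully on the 126 isotropic points
-/

set_option autoImplicit false

namespace Cfsg.Agent.Helper56.U35

/-- the group `PSU₃(5)` over the concrete field -/
abbrev G1 : Type := Cfsg.PSU 3 GF25 5

/-- the permutation of the points induced by an element of `SU₃(5)` -/
def thetaPerm (g : G0) : Equiv.Perm (Fin 126) where
  toFun := act g
  invFun := act g⁻¹
  left_inv i := by rw [← act_mul, inv_mul_cancel, act_one]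
  right_inv i := by rw [← act_mul, mul_inv_cancel, act_one]

/-- the permutation representation of `SU₃(5)` on the points -/
def theta : G0 →* Equiv.Perm (Fin 126) where
  toFun := thetaPerm
  map_one' := by
    apply Equiv.ext
    intro i
    exact act_one i
  map_mul' g h := by
    apply Equiv.ext
    intro i
    exact act_mul g h i

theorem theta_apply (g : G0) (i : Fin 126) : theta g i = act g i := rfl

theorem center_le_ker : Subgroup.center G0 ≤ theta.ker := by
  intro z hz
  rw [MonoidHom.mem_ker]
  obtain ⟨μ, hμ⟩ := (Cfsg.Agent.Helper38.mem_center_su_iff (F := GF25) (q := 5) (n := 3)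
    GF25.card_eq' (le_refl 3) z).1 hz
  have hμ' : mat z = μ • (1 : Matrix (Fin 3) (Fin 3) GF25) := hμ
  have hμ0 : μ ≠ 0 := by
    intro h0
    have hd : (mat z).det = 1 := z.1.2
    rw [hμ', h0, zero_smul, Matrix.det_zero] at hd
    exact zero_ne_one hd
  apply Equiv.ext
  intro i
  show act z i = i
  have hv0 : pt i ≠ 0 := ne_zero_of_lead (isPt_pt i).2
  unfold act actM
  have e : (mat z).mulVec (pt i) = fun j => μ * pt i j := by
    rw [hμ', Matrix.smul_mulVec, Matrix.one_mulVec]
    rfl
  rw [e, nrm_smul hμ0 hv0, nrm_eq_self (isPt_pt i).2, idx_pt]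

/-- the permutation representation of `PSU₃(5)` on the points -/
def thetaBar : G1 →* Equiv.Perm (Fin 126) :=
  QuotientGroup.lift (Subgroup.center G0) theta center_le_ker

theorem thetaBar_mk (g : G0) : thetaBar (QuotientGroup.mk g) = theta g := rfl

instance : MulAction G1 (Fin 126) := MulAction.compHom (Fin 126) thetaBar

theorem smul_eq (g : G1) (i : Fin 126) : g • i = thetaBar g i := rfl

theorem mk_smul (g : G0) (i : Fin 126) : (QuotientGroup.mk g : G1) • i = act g i := rfl

instance simpleG1 : IsSimpleGroup G1 :=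
  Cfsg.Agent.S0283.result (F := GF25) (q := 5) GF25.card_eq' 3 (le_refl 3) (by omega)

instance : Finite G1 := by
  have : Finite G0 := inferInstance
  infer_instance

theorem card_G1 : Nat.card G1 = 126000 := by
  have h := Cfsg.Agent.Helper45.GU.card_PSU (F := GF25) (q := 5) GF25.card_eq' 3 (by norm_num)
  have hp : (5 ^ (3 * (3 - 1) / 2) *
      ∏ i ∈ Finset.range 3, (if Even i then 5 ^ (i + 1) + 1 else 5 ^ (i + 1) - 1) : ℕ) = 2268000 := by
    decide +kernel
  have hg : Nat.gcd 3 (5 + 1) = 3 := by decide
  rw [hp, hg] at h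
  show Nat.card (Cfsg.PSU 3 GF25 5) = 126000
  omega

/-- the action of `PSU₃(5)` on the points is faithful, provided it is not trivial -/
theorem thetaBar_injective (hnt : ∃ g : G1, ∃ i : Fin 126, g • i ≠ i) : Function.Injective thetaBar := by
  rw [← MonoidHom.ker_eq_bot_iff]
  rcases simpleG1.eq_bot_or_eq_top_of_normal thetaBar.ker inferInstance with h | h
  · exact h
  · exfalso
    obtain ⟨g, i, hgi⟩ := hnt
    apply hgi
    have hg : g ∈ thetaBar.ker := by rw [h]; exact Subgroup.mem_top g
    rw [smul_eq, MonoidHom.mem_ker.1 hg]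
    rfl

theorem eq_of_smul_eq (hnt : ∃ g : G1, ∃ i : Fin 126, g • i ≠ i) {g h : G1}
    (e : ∀ i : Fin 126, g • i = h • i) : g = h := by
  apply thetaBar_injective hnt
  apply Equiv.ext
  intro i
  exact e i

end Cfsg.Agent.Helper56.U35
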