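import Cfsg.Agent.Helper56.U35.Gen
import Cfsg.Agent.Helper56.U35.Hom

/-!
# S2149: the certificates (generated by tools56/u35/emit2.py), evaluated on the permutation tables
-/

set_option autoImplicit false

namespace Cfsg.Agent.Helper56.U35

/-- evaluate a word in the generators on the tables (rightmost letter acts first) -/
def evalW (w : List (Fin 10)) (n : ℕ) : ℕ := w.foldr (fun k n => (genTab k.1).getD n 0) n

/-- the word `x^i y^j z^k` -/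
def wU (i j k : ℕ) : List (Fin 10) := List.replicate i 0 ++ (List.replicate j 1 ++ List.replicate k 2)

/-- for every point `w ≠ 0` the code `i + 5 j + 25 k` of the element `x^i y^j z^k` mapping `31` to `w` -/
def ijkTab : List ℕ :=
  [0, 80, 5, 55, 30, 105, 32, 8, 118, 91, 49, 47, 25, 119, 114, 120, 2, 62, 109, 56, 103, 38, 90, 1, 96, 85, 21, 70, 57, 108, 3, 0, 101, 37, 122, 34, 43, 13, 69, 99, 110, 6, 41, 15, 14, 27, 39, 113, 42, 4, 82, 83, 116, 28, 92, 71, 104, 24, 65, 52, 17, 10, 79, 84, 19, 67, 76, 54, 12, 81, 100, 93, 20, 117, 72, 29, 107, 58, 11, 48, 77, 51, 22, 35, 36, 18, 123, 115, 9, 53, 61, 64, 73, 121, 31, 86, 75, 23, 88, 95, 112, 74, 66, 111, 94, 98, 40, 44, 60, 87, 7, 33, 63, 26, 45, 124, 59, 50, 16, 46, 102, 97, 106, 68, 78, 89]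

/-- the word with a given code -/
def wC (n : ℕ) : List (Fin 10) := wU (n % 5) (n / 5 % 5) (n / 25)

/-- for every point a word in the last five generators mapping `0` to it -/
def orbW : List (List (Fin 10)) :=
  [[],
   [9, 7, 6, 5, 8],
   [9, 7, 8, 7, 6, 5, 6],
   [5, 7, 6, 5, 7],
   [8, 9, 8, 5],
   [9, 7, 8, 5, 6, 5],
   [6, 7, 6, 5],
   [7, 5, 6, 7],
   [8, 9, 7, 8, 6, 5, 6],
   [6, 5, 7],
   [6, 7, 8, 9, 5],
   [9, 8, 6, 5, 6],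
   [6, 5],
   [9, 7, 8, 6, 5],
   [5, 6],
   [8, 7, 6, 5],
   [6, 7, 6],
   [9, 8, 7, 6, 5, 5],
   [9, 7, 8, 5, 6],
   [9, 8, 5],
   [8, 9, 8, 7, 6, 5, 8],
   [7, 5, 6, 7, 5],
   [8, 5, 6, 5],
   [7, 8, 9, 7, 5],
   [9, 7, 5, 8, 6, 5],
   [7, 8, 7, 5, 6, 5],
   [9, 7, 8, 6, 5, 6],
   [5, 6, 5, 7],
   [6, 5, 6],
   [8, 9, 6, 7, 8, 6, 5, 6],
   [8, 5, 6],
   [5, 6, 7, 5],
   [7, 5],
   [6, 7, 6, 5, 6],
   [5],
   [5, 9, 6, 7, 5],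
   [7, 5, 6, 5],
   [8, 7, 6, 5, 7],
   [8, 5, 6, 5, 5],
   [7, 8, 7, 6, 5],
   [6],
   [7, 8, 7, 6, 5, 6],
   [7, 8, 5, 6, 5],
   [7, 6, 5, 8],
   [8, 9, 5],
   [7, 8, 5, 6],
   [9, 8, 6],
   [7, 6, 5, 5],
   [5, 5, 6, 7],
   [6, 7, 8, 6, 5, 6],
   [5, 8, 6, 5],
   [9, 6, 5, 8],
   [5, 6, 7],
   [6, 7, 5, 6, 5],
   [8, 9, 7, 8, 7, 6, 5, 6],
   [6, 7, 5, 6],
   [8, 9, 7, 8, 6, 5],
   [8, 6, 5, 6],
   [5, 7, 6, 5, 8],
   [8, 9, 7, 5],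
   [9, 8, 7, 6, 5, 8],
   [5, 6, 7, 6, 5],
   [8, 7, 6, 5, 6],
   [9, 6, 7, 8, 5, 6, 5],
   [7, 6],
   [5, 8],
   [7, 8, 9, 8, 5],
   [5, 7],
   [9, 8],
   [7, 8, 6],
   [7, 6, 5, 7],
   [5, 9, 6, 5, 8],
   [9, 5],
   [6, 5, 6, 7],
   [7, 6, 5],
   [9, 8, 7, 6, 5, 7],
   [8, 9, 5, 7, 6, 5, 8],
   [8, 7, 5, 6, 5],
   [6, 5, 5],
   [8, 6, 7, 6, 5],
   [7, 8, 6, 5, 6],
   [9, 8, 5, 6],
   [8, 9, 7, 6, 5, 8],
   [7, 5, 6, 5, 7],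
   [9, 8, 5, 6, 5],
   [7, 5, 8, 6, 5],
   [8, 6, 7, 6],
   [7, 8, 7, 6],
   [7, 5, 6],
   [9, 7, 8, 6],
   [8],
   [9, 5, 8],
   [7],
   [7, 8, 9, 5],
   [9, 5, 8, 6, 5],
   [6, 5, 8],
   [5, 6, 7, 6],
   [9, 6, 7, 8, 6, 5, 6],
   [8, 6],
   [7, 6, 5, 6],
   [6, 7, 5],
   [9, 6, 7, 5],
   [6, 7, 8, 5, 6],
   [9, 8, 6, 5],
   [8, 6, 5],
   [9, 6, 7, 8, 5, 6],
   [6, 7, 8, 5, 6, 5],
   [9, 5, 7, 6, 5, 8],
   [5, 8, 6, 7, 6],
   [8, 7, 6],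
   [9, 8, 7, 6, 5, 6],
   [8, 7, 6, 5, 8],
   [9, 7, 5],
   [8, 7, 5, 6],
   [7, 5, 6, 5, 5],
   [5, 7, 6, 5],
   [5, 6, 5, 5],
   [7, 8, 7, 5, 6],
   [5, 5, 6, 5],
   [8, 7, 6, 5, 5],
   [9, 8, 7, 6, 5],
   [7, 8, 6, 5],
   [6, 7],
   [5, 5],
   [5, 6, 5],
   [8, 5]]

/-- the `i`-th Carmichael generator, as a letter -/
def xL (i : Fin 5) : Fin 10 := ⟨5 + i.1, by omega⟩


set_option maxRecDepth 100000 in
theorem cert_fix : evalW [0] 0 = 0 ∧ evalW [1] 0 = 0 ∧ evalW [3] 0 = 0 ∧ evalW [5] 0 ≠ 0 := by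
  decide +kernel

set_option maxRecDepth 100000 in
theorem cert_x5 : ∀ i : Fin 126, evalW [0, 0, 0, 0, 0] i.1 = i.1 := by decide +kernel

set_option maxRecDepth 100000 in
theorem cert_y5 : ∀ i : Fin 126, evalW [1, 1, 1, 1, 1] i.1 = i.1 := by decide +kernel

set_option maxRecDepth 100000 in
theorem cert_z : ∀ i : Fin 126, evalW [2] i.1 = evalW [0, 1, 0, 0, 0, 0, 1, 1, 1, 1] i.1 := by
  decide +kernel

set_option maxRecDepth 100000 in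
theorem cert_zx : ∀ i : Fin 126, evalW [2, 0] i.1 = evalW [0, 2] i.1 := by decide +kernel

set_option maxRecDepth 100000 in
theorem cert_zy : ∀ i : Fin 126, evalW [2, 1] i.1 = evalW [1, 2] i.1 := by decide +kernel

set_option maxRecDepth 100000 in
theorem cert_cci : ∀ i : Fin 126, evalW [3, 4] i.1 = i.1 := by decide +kernel

set_option maxRecDepth 100000 in
theorem cert_orb : ∀ w : Fin 126, w ≠ 0 → evalW (wC (ijkTab.getD w.1 0)) 31 = w.1 := by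
  decide +kernel

set_option maxRecDepth 100000 in
theorem cert_ijk_lt : ∀ w : Fin 126, ijkTab.getD w.1 0 < 125 := by decide +kernel

set_option maxRecDepth 100000 in
theorem cert_na : evalW [0, 1] 31 ≠ evalW [1, 0] 31 := by decide +kernel

set_option maxRecDepth 100000 in
theorem cert_irr : ∀ i j k : Fin 5, ¬ (i = 0 ∧ j = 0) →
    evalW (wU i.1 j.1 k.1 ++ ([3] ++ (wU i.1 j.1 k.1 ++ [4]))) 1 ≠
      evalW ([3] ++ (wU i.1 j.1 k.1 ++ ([4] ++ wU i.1 j.1 k.1))) 1 := by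
  decide +kernel

/-! ### the alternating group -/

set_option maxRecDepth 100000 in
theorem cert_r0 : ∀ p : Fin 126, evalW [5, 5, 5] p.1 = p.1 := by decide +kernel

set_option maxRecDepth 100000 in
theorem cert_r1 : ∀ i : Fin 5, 1 ≤ i.1 → ∀ p : Fin 126, evalW [xL i, xL i] p.1 = p.1 := by
  decide +kernel

set_option maxRecDepth 100000 in
theorem cert_r2 : ∀ i j : Fin 5, i.1 + 1 = j.1 → ∀ p : Fin 126,
    evalW [xL i, xL j, xL i, xL j, xL i, xL j] p.1 = p.1 := by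
  decide +kernel

set_option maxRecDepth 100000 in
theorem cert_r3 : ∀ i j : Fin 5, i.1 + 1 < j.1 → ∀ p : Fin 126,
    evalW [xL i, xL j, xL i, xL j] p.1 = p.1 := by
  decide +kernel

set_option maxRecDepth 100000 in
theorem cert_orbA : ∀ w : Fin 126, evalW (orbW.getD w.1 []) 0 = w.1 ∧
    ∀ k ∈ orbW.getD w.1 [], 5 ≤ k.1 := by
  decide +kernel


/-- a word of order 5 -/
def wA : List (Fin 10) := [7, 8, 9, 5, 7, 6]

/-- a word of order 4 -/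
def wB : List (Fin 10) := [6, 7, 5, 8, 6, 5, 7, 6, 5]

set_option maxRecDepth 100000 in
theorem cert_a5 : (∀ p : Fin 126, evalW (wA ++ (wA ++ (wA ++ (wA ++ wA)))) p.1 = p.1) ∧
    (∃ p : Fin 126, evalW wA p.1 ≠ p.1) ∧ evalW wA 0 = 0 ∧ ∀ k ∈ wA, 5 ≤ k.1 := by
  decide +kernel

set_option maxRecDepth 100000 in
theorem cert_b4 : (∀ p : Fin 126, evalW (wB ++ (wB ++ (wB ++ wB))) p.1 = p.1) ∧
    (∃ p : Fin 126, evalW (wB ++ wB) p.1 ≠ p.1) ∧ evalW wB 0 = 0 ∧ ∀ k ∈ wB, 5 ≤ k.1 := by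
  decide +kernel

end Cfsg.Agent.Helper56.U35
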