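import Mathlib

/-!
# S2149 (minimal index of `PSU₃(5)`): the abstract data

`TIData G Ω` records a transitive action of a group `G` of order `126000` on `126` points, with a
subgroup `P` of order `125` normal in the point stabiliser and acting semiregularly off the fixed
point `o` (so the Sylow `5`-subgroups of `G` have pairwise trivial intersection).
-/

set_option autoImplicit false

namespace Cfsg.Agent.Helper56.U35

open MulAction

/-- the Sylow-`5` structure of `PSU₃(5)` acting on the `126` isotropic points -/
structure TIData (G : Type*) [Group G] (Ω : Type*) [MulAction G Ω] where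
  /-- the base point -/
  o : Ω
  /-- the Sylow `5`-subgroup fixing the base point -/
  P : Subgroup G
  cardG : Nat.card G = 126000
  cardΩ : Nat.card Ω = 126
  trans : ∀ w : Ω, ∃ g : G, g • o = w
  cardP : Nat.card P = 125
  P_le : P ≤ stabilizer G o
  P_normal : ∀ b ∈ stabilizer G o, ∀ u ∈ P, b * u * b⁻¹ ∈ P
  semireg : ∀ u ∈ P, u ≠ 1 → ∀ w : Ω, u • w = w → w = o

end Cfsg.Agent.Helper56.U35
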