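import Mathlib

/-!
# S2149: a concrete computable model `GF25` of the field with 25 elements

`GF25 = F_5[r]/(r^2 - 2)`; the element `a + b r` is stored as the number `a + 5 b < 25`.
All operations are `Nat` operations, which the kernel evaluates natively.
-/

set_option autoImplicit false

namespace Cfsg.Agent.Helper56.U35

/-- the field with 25 elements, as `F_5[r]/(r^2-2)`; `n = a + 5 b` stands for `a + b r` -/
structure GF25 where
  n : ℕ
  h : n < 25
  deriving DecidableEq

namespace GF25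

/-- raw addition -/
def addN (a b : ℕ) : ℕ := ((a % 5 + b % 5) % 5 + 5 * ((a / 5 + b / 5) % 5)) % 25

/-- raw multiplication: `(a0 + a1 r)(b0 + b1 r) = (a0 b0 + 2 a1 b1) + (a0 b1 + a1 b0) r` -/
def mulN (a b : ℕ) : ℕ :=
  (((a % 5) * (b % 5) + 2 * ((a / 5) * (b / 5))) % 5 +
    5 * (((a % 5) * (b / 5) + (a / 5) * (b % 5)) % 5)) % 25

/-- raw negation -/
def negN (a : ℕ) : ℕ := ((5 - a % 5) % 5 + 5 * ((5 - a / 5 % 5) % 5)) % 25

/-- inverse table (`0 ↦ 0`) -/
def invN (a : ℕ) : ℕ :=
  [0, 1, 3, 2, 4, 15, 9, 11, 14, 6, 20, 7, 17, 18, 8, 5, 22, 12, 13, 23, 10, 24, 16, 19, 21].getD a 0 % 25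

instance : Zero GF25 := ⟨⟨0, by decide⟩⟩
instance : One GF25 := ⟨⟨1, by decide⟩⟩
instance : Add GF25 := ⟨fun a b => ⟨addN a.n b.n, Nat.mod_lt _ (by decide)⟩⟩
instance : Mul GF25 := ⟨fun a b => ⟨mulN a.n b.n, Nat.mod_lt _ (by decide)⟩⟩
instance : Neg GF25 := ⟨fun a => ⟨negN a.n, Nat.mod_lt _ (by decide)⟩⟩
instance : Inv GF25 := ⟨fun a => ⟨invN a.n, Nat.mod_lt _ (by decide)⟩⟩

/-- the element with code `k % 25` -/
def ofNat (k : ℕ) : GF25 := ⟨k % 25, Nat.mod_lt _ (by decide)⟩

/-- equivalence with `Fin 25` -/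
def equivFin : GF25 ≃ Fin 25 where
  toFun a := ⟨a.n, a.h⟩
  invFun i := ⟨i.1, i.2⟩
  left_inv _ := rfl
  right_inv _ := rfl

instance : Fintype GF25 := Fintype.ofEquiv (Fin 25) equivFin.symm

theorem card_eq : Fintype.card GF25 = 25 := by
  rw [Fintype.card_congr equivFin, Fintype.card_fin]

theorem forall_iff (p : GF25 → Prop) : (∀ a, p a) ↔ ∀ i : Fin 25, p (equivFin.symm i) :=
  ⟨fun h i => h _, fun h a => by simpa using h (equivFin a)⟩

instance decForall (p : GF25 → Prop) [DecidablePred p] : Decidable (∀ a, p a) :=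
  decidable_of_iff _ (forall_iff p).symm

theorem exists_iff (p : GF25 → Prop) : (∃ a, p a) ↔ ∃ i : Fin 25, p (equivFin.symm i) :=
  ⟨fun ⟨a, h⟩ => ⟨equivFin a, by simpa using h⟩, fun ⟨i, h⟩ => ⟨_, h⟩⟩

instance decExists (p : GF25 → Prop) [DecidablePred p] : Decidable (∃ a, p a) :=
  decidable_of_iff _ (exists_iff p).symm

set_option maxRecDepth 100000 in
instance : CommRing GF25 where
  add_assoc := by decide +kernel
  zero_add := by decide +kernel
  add_zero := by decide +kernel
  nsmul := nsmulRec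
  zsmul := zsmulRec
  neg_add_cancel := by decide +kernel
  add_comm := by decide +kernel
  left_distrib := by decide +kernel
  right_distrib := by decide +kernel
  zero_mul := by decide +kernel
  mul_zero := by decide +kernel
  mul_assoc := by decide +kernel
  one_mul := by decide +kernel
  mul_one := by decide +kernel
  mul_comm := by decide +kernel

instance : Field GF25 where
  exists_pair_ne := ⟨0, 1, by decide +kernel⟩
  mul_inv_cancel := by decide +kernel
  inv_zero := rfl
  nnqsmul := _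
  nnqsmul_def := fun _ _ => rfl
  qsmul := _
  qsmul_def := fun _ _ => rfl

theorem card_eq' : Fintype.card GF25 = 5 ^ 2 := by rw [card_eq]; norm_num

set_option maxRecDepth 100000 in
theorem frob_add (a b : GF25) : (a + b) ^ 5 = a ^ 5 + b ^ 5 := by revert a b; decide +kernel

set_option maxRecDepth 100000 in
theorem pow_twentyfive (a : GF25) : a ^ 25 = a := by revert a; decide +kernel

end GF25

end Cfsg.Agent.Helper56.U35
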