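import Cfsg.Agent.Helper56.U35.Data
import Cfsg.Agent.Helper56.U35.Act

/-!
# S2149: the generators as elements of `SU₃(5)` and their action tables (kernel computations)
-/

set_option autoImplicit false

namespace Cfsg.Agent.Helper56.U35

theorem frob3 (a b c : GF25) : (a + b + c) ^ 5 = a ^ 5 + b ^ 5 + c ^ 5 := by
  rw [GF25.frob_add, GF25.frob_add]

theorem mem_SU_of (A : Matrix (Fin 3) (Fin 3) GF25) (hdet : A.det = 1)
    (h : ∀ j k : Fin 3, ∑ i, A i j * (A i k) ^ 5 = if j = k then 1 else 0) :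
    (⟨A, hdet⟩ : Matrix.SpecialLinearGroup (Fin 3) GF25) ∈ Cfsg.SU 3 GF25 5 := by
  have h00 : A 0 0 * A 0 0 ^ 5 + A 1 0 * A 1 0 ^ 5 + A 2 0 * A 2 0 ^ 5 = 1 := by
    simpa [Fin.sum_univ_three] using h 0 0
  have h01 : A 0 0 * A 0 1 ^ 5 + A 1 0 * A 1 1 ^ 5 + A 2 0 * A 2 1 ^ 5 = 0 := by
    simpa [Fin.sum_univ_three] using h 0 1
  have h02 : A 0 0 * A 0 2 ^ 5 + A 1 0 * A 1 2 ^ 5 + A 2 0 * A 2 2 ^ 5 = 0 := by
    simpa [Fin.sum_univ_three] using h 0 2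
  have h10 : A 0 1 * A 0 0 ^ 5 + A 1 1 * A 1 0 ^ 5 + A 2 1 * A 2 0 ^ 5 = 0 := by
    simpa [Fin.sum_univ_three] using h 1 0
  have h11 : A 0 1 * A 0 1 ^ 5 + A 1 1 * A 1 1 ^ 5 + A 2 1 * A 2 1 ^ 5 = 1 := by
    simpa [Fin.sum_univ_three] using h 1 1
  have h12 : A 0 1 * A 0 2 ^ 5 + A 1 1 * A 1 2 ^ 5 + A 2 1 * A 2 2 ^ 5 = 0 := by
    simpa [Fin.sum_univ_three] using h 1 2
  have h20 : A 0 2 * A 0 0 ^ 5 + A 1 2 * A 1 0 ^ 5 + A 2 2 * A 2 0 ^ 5 = 0 := by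
    simpa [Fin.sum_univ_three] using h 2 0
  have h21 : A 0 2 * A 0 1 ^ 5 + A 1 2 * A 1 1 ^ 5 + A 2 2 * A 2 1 ^ 5 = 0 := by
    simpa [Fin.sum_univ_three] using h 2 1
  have h22 : A 0 2 * A 0 2 ^ 5 + A 1 2 * A 1 2 ^ 5 + A 2 2 * A 2 2 ^ 5 = 1 := by
    simpa [Fin.sum_univ_three] using h 2 2
  intro u v
  show Cfsg.hermForm 3 GF25 5 (A.mulVec u) (A.mulVec v) = Cfsg.hermForm 3 GF25 5 u v
  simp only [Cfsg.hermForm, Matrix.mulVec, dotProduct, Fin.sum_univ_three]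
  rw [frob3, frob3, frob3]
  simp only [mul_pow]
  linear_combination (u 0 * v 0 ^ 5) * h00 + (u 0 * v 1 ^ 5) * h01 + (u 0 * v 2 ^ 5) * h02 +
    (u 1 * v 0 ^ 5) * h10 + (u 1 * v 1 ^ 5) * h11 + (u 1 * v 2 ^ 5) * h12 +
    (u 2 * v 0 ^ 5) * h20 + (u 2 * v 1 ^ 5) * h21 + (u 2 * v 2 ^ 5) * h22

set_option maxRecDepth 100000 in
theorem det_genMat : ∀ k : Fin 10, (genMat k.1).det = 1 := by
  intro k
  rw [Matrix.det_fin_three]
  revert k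
  decide +kernel

set_option maxRecDepth 100000 in
theorem rel_genMat : ∀ k : Fin 10, ∀ j l : Fin 3,
    ∑ i, genMat k.1 i j * (genMat k.1 i l) ^ 5 = if j = l then 1 else 0 := by
  decide +kernel

/-- the generators as elements of `SU₃(5)` (the identity for `k ≥ 10`) -/
def gen0 (k : ℕ) : G0 :=
  if h : k < 10 then
    ⟨⟨genMat k, det_genMat ⟨k, h⟩⟩, mem_SU_of _ (det_genMat ⟨k, h⟩) (rel_genMat ⟨k, h⟩)⟩
  else 1

theorem mat_gen0 (k : Fin 10) : mat (gen0 k.1) = genMat k.1 := by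
  unfold gen0
  rw [dif_pos k.2]
  rfl

set_option maxRecDepth 100000 in
theorem actM_genMat : ∀ k : Fin 10, ∀ i : Fin 126, (actM (genMat k.1) i).1 = (genTab k.1).getD i.1 0 := by
  decide +kernel

theorem act_gen0 (k : Fin 10) (i : Fin 126) : (act (gen0 k.1) i).1 = (genTab k.1).getD i.1 0 := by
  unfold act
  rw [mat_gen0]
  exact actM_genMat k i

end Cfsg.Agent.Helper56.U35
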