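import Cfsg.Agent.Helper56.U35.Words
import Cfsg.Agent.Helper23.U35_FIN
import Cfsg.Agent.Helper90.U35_DAT
import Cfsg.Agent.Helper90.U35_P3
import Cfsg.Agent.Helper24.U35_STB
import Cfsg.Agent.Helper76.U35_SYL
import Cfsg.Agent.Helper61.U35_TRN
import Cfsg.Agent.Helper30.U35_IDX
import Cfsg.Agent.Helper60.U35_QUO
import Cfsg.Agent.Helper31.U35_NCL

/-!
# S2149: every proper subgroup of `PSU₃(5)` has index at least 50
-/

set_option autoImplicit false

namespace Cfsg.Agent.Helper56.U35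

open MulAction

/-- the generators of the Sylow 5-subgroup -/
def gx : G1 := gen1 0
def gy : G1 := gen1 1
def gz : G1 := gen1 2
def gc : G1 := gen1 3
def gs : G1 := gen1 5

theorem gx_fix : gx • (0 : Fin 126) = 0 := by
  rw [gx, ← wp_single]; exact wp_smul' _ _ 0 cert_fix.1 (by norm_num)

theorem gy_fix : gy • (0 : Fin 126) = 0 := by
  rw [gy, ← wp_single]; exact wp_smul' _ _ 0 cert_fix.2.1 (by norm_num)

theorem gc_fix : gc • (0 : Fin 126) = 0 := by
  rw [gc, ← wp_single]; exact wp_smul' _ _ 0 cert_fix.2.2.1 (by norm_num)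

theorem gs_move : gs • (0 : Fin 126) ≠ 0 := by
  rw [gs, ← wp_single]
  intro h
  have h1 := congrArg Fin.val h
  rw [wp_smul] at h1
  exact cert_fix.2.2.2 h1

theorem gx_pow : gx ^ 5 = 1 := by
  rw [gx, ← wp_replicate]
  exact wp_eq_one_of _ cert_x5

theorem gy_pow : gy ^ 5 = 1 := by
  rw [gy, ← wp_replicate]
  exact wp_eq_one_of _ cert_y5

theorem gz_eq : gz = gx * gy * gx ^ 4 * gy ^ 4 := by
  have h := wp_eq_of [2] [0, 1, 0, 0, 0, 0, 1, 1, 1, 1] cert_z
  rw [wp_single] at h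
  rw [gz, h]
  simp only [wp_cons, wp_nil, gx, gy, pow_succ, pow_zero, one_mul, mul_one, mul_assoc]

theorem gz_gx : gz * gx = gx * gz := by
  have h := wp_eq_of [2, 0] [0, 2] cert_zx
  rw [wp_cons, wp_single, wp_cons, wp_single] at h
  exact h

theorem gz_gy : gz * gy = gy * gz := by
  have h := wp_eq_of [2, 1] [1, 2] cert_zy
  rw [wp_cons, wp_single, wp_cons, wp_single] at h
  exact h

theorem gc_inv : gen1 4 = gc⁻¹ := by
  have h := wp_eq_one_of [3, 4] cert_cci
  rw [wp_cons, wp_single] at h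
  exact eq_inv_of_mul_eq_one_right h

/-- the Sylow 5-subgroup -/
def PP : Subgroup G1 := Subgroup.closure ({gx, gy} : Set G1)

theorem gx_mem : gx ∈ PP := Subgroup.subset_closure (by simp)

theorem gy_mem : gy ∈ PP := Subgroup.subset_closure (by simp)

theorem gz_mem : gz ∈ PP := by
  rw [gz_eq]
  exact PP.mul_mem (PP.mul_mem (PP.mul_mem gx_mem gy_mem) (PP.pow_mem gx_mem 4)) (PP.pow_mem gy_mem 4)

theorem wp_wU (i j k : ℕ) : wp (wU i j k) = gx ^ i * (gy ^ j * gz ^ k) := by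
  unfold wU
  rw [wp_append, wp_append, wp_replicate, wp_replicate, wp_replicate]
  rfl

theorem wp_wU_mem (i j k : ℕ) : wp (wU i j k) ∈ PP := by
  rw [wp_wU]
  exact PP.mul_mem (PP.pow_mem gx_mem i) (PP.mul_mem (PP.pow_mem gy_mem j) (PP.pow_mem gz_mem k))

theorem orbit_PP (w : Fin 126) (hw : w ≠ 0) : ∃ u ∈ PP, u • (31 : Fin 126) = w :=
  ⟨wp (wC (ijkTab.getD w.1 0)), wp_wU_mem _ _ _, wp_smul' _ _ w.1 (cert_orb w hw) w.2⟩

/-- `gz` is central in `PP` -/
theorem gz_central (v : G1) (hv : v ∈ PP) : gz * v = v * gz := by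
  have hcen : PP ≤ Subgroup.centralizer ({gz} : Set G1) := by
    rw [PP, Subgroup.closure_le]
    intro g hg
    rw [SetLike.mem_coe, Subgroup.mem_centralizer_iff]
    intro h hh
    rw [Set.mem_singleton_iff] at hh
    subst hh
    rcases hg with rfl | rfl
    · exact gz_gx
    · exact gz_gy
  have := Subgroup.mem_centralizer_iff.1 (hcen hv) gz rfl
  exact this

/-- the abstract data -/
theorem exists_data : ∃ D : TIData G1 (Fin 126), D.o = 0 ∧ D.P = PP :=
  Cfsg.Agent.Helper90.U35.exists_tiData card_G1 (by simp) (0 : Fin 126) 31 gx gy gs gx_fix gy_fix gs_move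
    gx_pow gy_pow orbit_PP

/-- every element of `PP` is of the form `x^i y^j z^k` -/
theorem exists_ijk (D : TIData G1 (Fin 126)) (hDo : D.o = 0) (hDP : D.P = PP) (u : G1) (hu : u ∈ PP) :
    ∃ i j k : Fin 5, u = wp (wU i.1 j.1 k.1) := by
  have hfix : u • (0 : Fin 126) = 0 := by
    have := D.P_le (hDP ▸ hu)
    rw [mem_stabilizer_iff, hDo] at this
    exact this
  have hw : u • (31 : Fin 126) ≠ 0 := by
    intro h
    have h2 : u • (31 : Fin 126) = u • (0 : Fin 126) := by rw [h, hfix]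
    have := MulAction.injective u h2
    exact absurd this (by decide)
  set w := u • (31 : Fin 126) with hwdef
  set n := ijkTab.getD w.1 0 with hn
  set u' := wp (wC n) with hu'
  have hu'w : u' • (31 : Fin 126) = w := wp_smul' _ _ w.1 (cert_orb w hw) w.2
  have hu'mem : u' ∈ PP := wp_wU_mem _ _ _
  have hq : u'⁻¹ * u ∈ D.P := by
    rw [hDP]
    exact PP.mul_mem (PP.inv_mem hu'mem) hu
  have hq31 : (u'⁻¹ * u) • (31 : Fin 126) = 31 := by
    rw [mul_smul, ← hwdef, ← hu'w, inv_smul_smul]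
  have h1 : u'⁻¹ * u = 1 := by
    by_contra hne
    have := D.semireg _ hq hne 31 hq31
    rw [hDo] at this
    exact absurd this (by decide)
  have hueq : u = u' := by
    have := congrArg (fun t => u' * t) h1
    simpa using this
  have hn125 : n < 125 := cert_ijk_lt w
  have hk : n / 25 < 5 := by omega
  exact ⟨⟨n % 5, Nat.mod_lt _ (by norm_num)⟩, ⟨n / 5 % 5, Nat.mod_lt _ (by norm_num)⟩, ⟨n / 25, hk⟩, hueq⟩

theorem gx_gy_ne : gx * gy ≠ gy * gx := by
  have h := wp_ne_of [0, 1] [1, 0] 31 cert_na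
  rw [wp_cons, wp_single, wp_cons, wp_single] at h
  exact h

theorem irr_aux (i j k : Fin 5) (hij : ¬ (i = 0 ∧ j = 0)) :
    ¬ Commute (wp (wU i.1 j.1 k.1)) (gc * wp (wU i.1 j.1 k.1) * gc⁻¹) := by
  intro hcomm
  have h := wp_ne_of _ _ 1 (cert_irr i j k hij)
  apply h
  rw [wp_append, wp_append, wp_append, wp_append, wp_append, wp_append, wp_single, wp_single, gc_inv]
  have e := hcomm.eq
  show wp (wU i.1 j.1 k.1) * (gc * (wp (wU i.1 j.1 k.1) * gc⁻¹)) =
    gc * (wp (wU i.1 j.1 k.1) * (gc⁻¹ * wp (wU i.1 j.1 k.1)))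
  rw [← mul_assoc gc, ← mul_assoc gc, ← mul_assoc (gc * _)]
  exact e

/-- **the lower bound**: every proper subgroup of `PSU₃(5)` has index at least 50 -/
theorem lower_bound (H : Subgroup G1) (hH : H ≠ ⊤) : 50 ≤ H.index := by
  obtain ⟨D, hDo, hDP⟩ := exists_data
  have hstb := Cfsg.Agent.Helper24.U35.card_stabilizer D
  have hsyl := fun (R : Subgroup G1) (hR : IsPGroup 5 R) =>
    Cfsg.Agent.Helper76.U35.exists_conj_le D R hR
  have hxP : gx ∈ D.P := hDP ▸ gx_mem
  have hyP : gy ∈ D.P := hDP ▸ gy_mem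
  have hna : ∃ a ∈ D.P, ∃ b ∈ D.P, a * b ≠ b * a := ⟨gx, hxP, gy, hyP, gx_gy_ne⟩
  have hp3 : Nat.card (Subgroup.center D.P) = 5 ∧ commutator D.P ≤ Subgroup.center D.P :=
    Cfsg.Agent.Helper90.U35.center_facts D.cardP
      ⟨⟨gx, hxP⟩, ⟨gy, hyP⟩, fun h => gx_gy_ne (congrArg Subtype.val h)⟩
  have hc : gc • D.o = D.o := by rw [hDo]; exact gc_fix
  have hirr : ∀ u ∈ D.P, (∃ v ∈ D.P, u * v ≠ v * u) → ¬ Commute u (gc * u * gc⁻¹) := by
    intro u hu ⟨v, hv, huv⟩
    rw [hDP] at hu hv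
    obtain ⟨i, j, k, rfl⟩ := exists_ijk D hDo hDP u hu
    by_cases hij : i = 0 ∧ j = 0
    · exfalso
      apply huv
      obtain ⟨hi, hj⟩ := hij
      rw [wp_wU, hi, hj]
      simp only [Fin.val_zero, pow_zero, one_mul]
      have hz := gz_central v hv
      have hc' : Commute gz v := hz
      exact (hc'.pow_left k.1).eq
    · exact irr_aux i j k hij
  exact Cfsg.Agent.Helper23.U35.index_ge D hstb
    (fun H h5 hb => Cfsg.Agent.Helper61.U35.trans_of_large D hstb hsyl H h5 hb)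
    (fun H h => Cfsg.Agent.Helper30.U35.card_of_trans D H h)
    (fun H => Cfsg.Agent.Helper60.U35.card_inf_stabilizer D hstb H)
    (fun H htr K hK hKH hKB => Cfsg.Agent.Helper31.U35.eq_top_of_trans D H htr K hK hKH hKB)
    hp3 gc hc hna hirr H hH

end Cfsg.Agent.Helper56.U35
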