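import Cfsg.Agent.Helper56.U35.Words
import Cfsg.Agent.Helper60.U35_A7C

/-!
# S2149: `PSU₃(5)` has a subgroup of index 50 (an alternating group `A₇`)
-/

set_option autoImplicit false

namespace Cfsg.Agent.Helper56.U35

open Cfsg.Agent.Helper56.Carmichael

/-- the Carmichael generators -/
def xs (i : ℕ) : G1 := if h : i < 5 then gen1 (xL ⟨i, h⟩) else 1

theorem xs_eq (i : Fin 5) : xs i.1 = gen1 (xL i) := by
  unfold xs
  rw [dif_pos i.2]

theorem carRel_xs : CarRel 5 xs where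
  r0 _ := by
    have h := wp_eq_one_of [5, 5, 5] cert_r0
    rw [wp_cons, wp_cons, wp_single] at h
    have e : xs 0 = gen1 5 := xs_eq 0
    rw [e, pow_succ, pow_succ, pow_one, mul_assoc]
    exact h
  r1 i h1 hi := by
    have h := wp_eq_one_of [xL ⟨i, hi⟩, xL ⟨i, hi⟩] (cert_r1 ⟨i, hi⟩ h1)
    rw [wp_cons, wp_single] at h
    rw [xs_eq ⟨i, hi⟩, pow_two]
    exact h
  r2 i hi := by
    have hi' : i < 5 := by omega
    have h := wp_eq_one_of _ (cert_r2 ⟨i, hi'⟩ ⟨i + 1, hi⟩ rfl)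
    rw [wp_cons, wp_cons, wp_cons, wp_cons, wp_cons, wp_single] at h
    rw [xs_eq ⟨i, hi'⟩, xs_eq ⟨i + 1, hi⟩, pow_succ, pow_succ, pow_one]
    simp only [mul_assoc] at h ⊢
    exact h
  r3 i j hij hj := by
    have hi' : i < 5 := by omega
    have h := wp_eq_one_of _ (cert_r3 ⟨i, hi'⟩ ⟨j, hj⟩ hij)
    rw [wp_cons, wp_cons, wp_cons, wp_single] at h
    rw [xs_eq ⟨i, hi'⟩, xs_eq ⟨j, hj⟩, pow_two]
    simp only [mul_assoc] at h ⊢
    exact h

theorem gen1_mem_Hm (k : Fin 10) (hk : 5 ≤ k.1) : gen1 k ∈ Hm xs 5 := by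
  have h5 : k.1 - 5 < 5 := by omega
  have e : gen1 k = xs (k.1 - 5) := by
    rw [xs_eq ⟨k.1 - 5, h5⟩]
    congr 1
    apply Fin.ext
    show k.1 = 5 + (k.1 - 5)
    omega
  rw [e]
  exact x_mem_Hm xs h5

theorem wp_mem_Hm (w : List (Fin 10)) (hw : ∀ k ∈ w, 5 ≤ k.1) : wp w ∈ Hm xs 5 := by
  induction w with
  | nil => rw [wp_nil]; exact Subgroup.one_mem _
  | cons k w ih =>
    rw [wp_cons]
    exact Subgroup.mul_mem _ (gen1_mem_Hm k (hw k (List.mem_cons_self)))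
      (ih (fun k' hk' => hw k' (List.mem_cons_of_mem _ hk')))

theorem trans_Hm (i : Fin 126) : ∃ g ∈ Hm xs 5, g • (0 : Fin 126) = i :=
  ⟨wp (orbW.getD i.1 []), wp_mem_Hm _ (cert_orbA i).2, wp_smul' _ _ i.1 (cert_orbA i).1 i.2⟩

theorem orderOf_wA : orderOf (wp wA) = 5 := by
  have : Fact (Nat.Prime 5) := ⟨by norm_num⟩
  apply orderOf_eq_prime
  · have h := wp_eq_one_of _ cert_a5.1
    rw [wp_append, wp_append, wp_append, wp_append] at h
    rw [pow_succ, pow_succ, pow_succ, pow_succ, pow_one]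
    simp only [mul_assoc] at h ⊢
    exact h
  · obtain ⟨p, hp⟩ := cert_a5.2.1
    intro e
    apply hp
    rw [← wp_smul, e, one_smul]

theorem orderOf_wB : orderOf (wp wB) = 4 := by
  have : Fact (Nat.Prime 2) := ⟨by norm_num⟩
  have h4 : wp wB ^ 2 ^ (1 + 1) = 1 := by
    have h := wp_eq_one_of _ cert_b4.1
    rw [wp_append, wp_append, wp_append] at h
    show wp wB ^ 4 = 1
    rw [pow_succ, pow_succ, pow_succ, pow_one]
    simp only [mul_assoc] at h ⊢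
    exact h
  have h2 : ¬ wp wB ^ 2 ^ 1 = 1 := by
    obtain ⟨p, hp⟩ := cert_b4.2.1
    intro e
    apply hp
    have e' : wp (wB ++ wB) = 1 := by rw [wp_append, ← pow_two]; exact e
    rw [← wp_smul, e', one_smul]
  exact orderOf_eq_prime_pow h2 h4

/-- **the upper bound**: `PSU₃(5)` has a subgroup of index 50 -/
theorem exists_index : ∃ H : Subgroup G1, H.index = 50 :=
  ⟨Hm xs 5, Cfsg.Agent.Helper60.U35.index_Hm_eq' card_G1 xs carRel_xs 0 trans_Hm (wp wA) (wp wB)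
    (wp_mem_Hm _ cert_a5.2.2.2) (wp_mem_Hm _ cert_b4.2.2.2)
    (wp_smul' _ _ 0 cert_a5.2.2.1 (by norm_num)) (wp_smul' _ _ 0 cert_b4.2.2.1 (by norm_num))
    orderOf_wA orderOf_wB⟩

end Cfsg.Agent.Helper56.U35
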