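import Cfsg.Agent.Helper56.U35.Lower
import Cfsg.Agent.Helper56.U35.Upper
import Cfsg.Agent.Helper96.SUEquiv
import Cfsg.Agent.Helper31.U35_TSP

/-!
# S2149: the minimal index of a proper subgroup of `PSU₃(5)` is 50
-/

set_option autoImplicit false

namespace Cfsg.Agent.Helper56.U35

/-- the statement over the concrete field -/
theorem main_GF25 : (∀ H : Subgroup G1, H ≠ ⊤ → 50 ≤ H.index) ∧ ∃ H : Subgroup G1, H.index = 50 :=
  ⟨lower_bound, exists_index⟩

/-- the statement over any field with 25 elements -/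
theorem main {F : Type*} [Field F] [Fintype F] (hF : Fintype.card F = 25) :
    (∀ H : Subgroup (Cfsg.PSU 3 F 5), H ≠ ⊤ → 50 ≤ H.index) ∧
      ∃ H : Subgroup (Cfsg.PSU 3 F 5), H.index = 50 := by
  have e0 : F ≃+* GF25 := FiniteField.ringEquivOfCardEq (by rw [hF, GF25.card_eq])
  have e : Cfsg.PSU 3 F 5 ≃* G1 :=
    Cfsg.Agent.Helper96.quotientCenterCongr (Cfsg.Agent.Helper96.suEquiv e0 3 5)
  exact Cfsg.Agent.Helper31.U35.transport e main_GF25

end Cfsg.Agent.Helper56.U35
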