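import Cfsg.Agent.Helper56.U35.GF25
import Cfsg.Prelude.Def_Classical

/-!
# S2149: the 126 isotropic points of the unitary plane over `GF25` and the action of `SU₃(5)`

Modelled on `Cfsg.Agent.Helper39.U34` (the same construction for `SU₃(4)`).
-/

set_option autoImplicit false

namespace Cfsg.Agent.Helper56.U35

/-- vectors of `GF25^3` -/
abbrev Vec : Type := Fin 3 → GF25

/-- the group `SU_3(5)` over the concrete field -/
abbrev G0 : Type := ↥(Cfsg.SU 3 GF25 5)

/-- the matrix of an element of `G0` -/
def mat (g : G0) : Matrix (Fin 3) (Fin 3) GF25 := (g : Matrix.SpecialLinearGroup (Fin 3) GF25).1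

/-- the hermitian form `Σ u_i v_i^5` -/
def herm (u v : Vec) : GF25 := u 0 * v 0 ^ 5 + u 1 * v 1 ^ 5 + u 2 * v 2 ^ 5

/-- the first nonzero coordinate -/
def lead (v : Vec) : GF25 := if v 0 = 0 then (if v 1 = 0 then v 2 else v 1) else v 0

/-- normalise: divide by the first nonzero coordinate -/
def nrm (v : Vec) : Vec := fun i => (lead v)⁻¹ * v i

/-- a normalised isotropic vector -/
def IsPt (v : Vec) : Prop := herm v v = 0 ∧ lead v = 1

instance (v : Vec) : Decidable (IsPt v) := by unfold IsPt; infer_instance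

/-- the vector with code `n = v0 + 25 v1 + 625 v2` -/
def mkVec (n : ℕ) : Vec := ![GF25.ofNat n, GF25.ofNat (n / 25), GF25.ofNat (n / 625)]

/-- the code of a vector -/
def code (v : Vec) : ℕ := (v 0).n + 25 * (v 1).n + 625 * (v 2).n

/-- the codes of the 126 points, sorted lexicographically in `(v0, v1, v2)` -/
def ptCodes : List ℕ :=
  [1275, 1900, 3775, 5650, 13150, 15025, 1251, 1876, 3751, 5626, 13126, 15001, 3151, 6901, 8776, 10026,
   11901, 12526, 51, 76, 3226, 6976, 8851, 10101, 11976, 12601, 751, 2626, 7626, 8251, 10751, 11376,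
   151, 4551, 5176, 6426, 9551, 13926, 14551, 4576, 5201, 6451, 9576, 13951, 14576, 226, 4626, 5251,
   6501, 9626, 14001, 14626, 901, 2776, 7776, 8401, 10901, 11526, 3426, 7176, 9051, 10301, 12176, 12801,
   3451, 7201, 9076, 10326, 12201, 12826, 976, 2851, 7851, 8476, 10976, 11601, 4751, 5376, 6626, 9751,
   14126, 14751, 1026, 2901, 7901, 8526, 11026, 11651, 3551, 7301, 9176, 10426, 12301, 12926, 3576, 7326,
   9201, 10451, 12326, 12951, 1101, 2976, 7976, 8601, 11101, 11726, 1126, 3001, 8001, 8626, 11126, 11751,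
   526, 4926, 5551, 6801, 9926, 14301, 14926, 4951, 5576, 6826, 9951, 14326, 14951, 601]

/-- the `i`-th point -/
def pt (i : Fin 126) : Vec := mkVec (ptCodes.getD i.1 0)

/-- the index of a point (`0` for other vectors, but we never use that) -/
def idx (v : Vec) : Fin 126 := ⟨ptCodes.idxOf (code v) % 126, Nat.mod_lt _ (by decide)⟩

/-- the action of a matrix on point indices -/
def actM (M : Matrix (Fin 3) (Fin 3) GF25) (i : Fin 126) : Fin 126 := idx (nrm (M.mulVec (pt i)))

/-- the action of `G0` on point indices -/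
def act (g : G0) (i : Fin 126) : Fin 126 := actM (mat g) i

end Cfsg.Agent.Helper56.U35
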