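import Cfsg.Agent.Helper56.U35.Cert

/-!
# S2149: words in the generators of `PSU₃(5)` and their evaluation on the tables
-/

set_option autoImplicit false

namespace Cfsg.Agent.Helper56.U35

/-- the generators in `PSU₃(5)` -/
def gen1 (k : Fin 10) : G1 := QuotientGroup.mk (gen0 k.1)

theorem gen1_smul (k : Fin 10) (i : Fin 126) : (gen1 k • i).1 = (genTab k.1).getD i.1 0 :=
  act_gen0 k i

/-- the product of a word -/
def wp (w : List (Fin 10)) : G1 := (w.map gen1).prod

theorem wp_nil : wp [] = 1 := rfl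

theorem wp_cons (k : Fin 10) (w : List (Fin 10)) : wp (k :: w) = gen1 k * wp w := by
  unfold wp
  rw [List.map_cons, List.prod_cons]

theorem wp_append (a b : List (Fin 10)) : wp (a ++ b) = wp a * wp b := by
  unfold wp
  rw [List.map_append, List.prod_append]

theorem wp_single (k : Fin 10) : wp [k] = gen1 k := by
  rw [wp_cons, wp_nil, mul_one]

theorem wp_replicate (n : ℕ) (k : Fin 10) : wp (List.replicate n k) = gen1 k ^ n := by
  unfold wp
  rw [List.map_replicate, List.prod_replicate]

theorem wp_smul (w : List (Fin 10)) (i : Fin 126) : (wp w • i).1 = evalW w i.1 := by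
  induction w with
  | nil => rw [wp_nil, one_smul]; rfl
  | cons k w ih =>
    rw [wp_cons, mul_smul, gen1_smul, ih]
    rfl

theorem wp_smul' (w : List (Fin 10)) (i : Fin 126) (j : ℕ) (h : evalW w i.1 = j) (hj : j < 126) :
    wp w • i = ⟨j, hj⟩ := Fin.ext (by rw [wp_smul, h])

theorem nontrivial_action : ∃ g : G1, ∃ i : Fin 126, g • i ≠ i := by
  refine ⟨wp [5], 0, ?_⟩
  intro h
  have h1 := congrArg Fin.val h
  rw [wp_smul] at h1
  exact cert_fix.2.2.2 h1

theorem wp_eq_of (w w' : List (Fin 10)) (h : ∀ i : Fin 126, evalW w i.1 = evalW w' i.1) :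
    wp w = wp w' :=
  eq_of_smul_eq nontrivial_action (fun i => Fin.ext (by rw [wp_smul, wp_smul, h]))

theorem wp_eq_one_of (w : List (Fin 10)) (h : ∀ i : Fin 126, evalW w i.1 = i.1) : wp w = 1 := by
  rw [← wp_nil]
  exact wp_eq_of w [] h

theorem wp_ne_of (w w' : List (Fin 10)) (i : Fin 126) (h : evalW w i.1 ≠ evalW w' i.1) :
    wp w ≠ wp w' := by
  intro e
  apply h
  rw [← wp_smul, ← wp_smul, e]

end Cfsg.Agent.Helper56.U35
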